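import Mathlib
import Cfsg.Agent.FGS.ClassSize
import Cfsg.Agent.FGS.PrimePart
import Cfsg.Agent.S0143
import Cfsg.Agent.S4035
import Cfsg.Agent.S4068

/-! Groups whose class sizes have at most two prime divisors: basic lemmas. -/

set_option autoImplicit false
set_option linter.unusedSectionVars false

namespace Cfsg.Agent.Cs2

open Subgroup Cfsg

universe u

variable {G : Type u} [Group G]

/-- The class size. -/
noncomputable abbrev ix (g : G) : ℕ := (centralizer ({g} : Set G)).index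

/-- Every class size has at most two prime divisors. -/
def H2 (G : Type*) [Group G] : Prop := ∀ x : G, (ix x).primeFactors.card ≤ 2

/-- `s`-elements. -/
def El (s : ℕ) (y : G) : Prop := ∃ k, orderOf y = s ^ k

theorem El.pow {s : ℕ} {y : G} (h : El s y) : ∃ k, y ^ s ^ k = 1 :=
  Exists.imp (fun _ e => by rw [← e, pow_orderOf_eq_one]) h

theorem El.of_mem {s : ℕ} [Fact s.Prime] {P : Subgroup G} (hP : IsPGroup s P) {y : G} (hy : y ∈ P) :
    El s y := by
  obtain ⟨k, hk⟩ := IsPGroup.iff_orderOf.1 hP ⟨y, hy⟩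
  exact ⟨k, by rw [← hk, orderOf_mk]⟩

theorem El.cop {s : ℕ} (hs : s.Prime) {y g : G} (h : El s y) (hg : ¬ s ∣ orderOf g) :
    (orderOf g).Coprime (orderOf y) := by
  obtain ⟨k, hk⟩ := h
  exact hk ▸ (((Nat.Prime.coprime_iff_not_dvd hs).2 hg).symm.pow_right k)

variable [Finite G]

theorem ix_ne (g : G) : ix g ≠ 0 := index_ne_zero_of_finite

theorem H2.sub (h : H2 G) (N : Subgroup G) [N.Normal] : H2 N := fun x =>
  (Finset.card_le_card (Nat.primeFactors_mono (FGS.index_centralizer_normal_dvd N x)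
    (ix_ne _))).trans (h x)

theorem H2.map (h : H2 G) {X : Type*} [Group X] (f : G →* X) (hf : Function.Surjective f) :
    H2 X := fun x => by
  obtain ⟨x, rfl⟩ := hf x
  exact (Finset.card_le_card (Nat.primeFactors_mono (FGS.index_centralizer_map_dvd f hf x)
    (ix_ne _))).trans (h x)

theorem H2.three (h : H2 G) {g : G} {a b c : ℕ} (ha : a.Prime) (hb : b.Prime) (hc : c.Prime)
    (ab : a ≠ b) (ac : a ≠ c) (bc : b ≠ c) (h1 : a ∣ ix g) (h2 : b ∣ ix g) (h3 : c ∣ ix g) :
    False := by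
  have := (Finset.card_le_card (show {a, b, c} ⊆ (ix g).primeFactors by
    simp [Finset.insert_subset_iff, *, ix_ne])).trans (h g)
  rw [Finset.card_eq_three.2 ⟨a, b, c, ab, ac, bc, rfl⟩] at this
  omega

theorem exists_cen (s : ℕ) [hs : Fact s.Prime] (hd : s ∣ Nat.card G) :
    ∃ z : G, orderOf z = s ∧ ¬ s ∣ ix z := by
  obtain ⟨P⟩ : Nonempty (Sylow s G) := inferInstance
  have : Nontrivial P := (P : Subgroup G).nontrivial_iff_ne_bot.2 (P.ne_bot_of_dvd_card hd)
  have := P.2.center_nontrivial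
  obtain ⟨k, h0, hk⟩ := (P.2.to_subgroup (center P)).nontrivial_iff_card.1 this
  obtain ⟨z, hz⟩ := exists_prime_orderOf_dvd_card' (G := center P) s (hk ▸ dvd_pow_self _ h0.ne')
  refine ⟨z.1.1, by rw [orderOf_coe, orderOf_coe, hz], fun e => P.not_dvd_index (e.trans
    (index_dvd_of_le fun a ha => mem_centralizer_singleton_iff.2 ?_))⟩
  exact congrArg Subtype.val (mem_center_iff.1 z.2 ⟨a, ha⟩)

theorem exists_conj_comm {s : ℕ} [Fact s.Prime] {x y : G} (hx : ¬ s ∣ ix x) (hy : El s y) :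
    ∃ g : G, Commute x (g * y * g⁻¹) := by
  obtain ⟨P, -, hP⟩ := FGS.exists_sylow_le_of_not_dvd_index hx IsPGroup.of_bot bot_le
  obtain ⟨Q, hQ⟩ := FGS.exists_sylow_mem hy.pow
  obtain ⟨g, rfl⟩ := MulAction.exists_smul_eq G Q P
  exact ⟨g, (mem_centralizer_singleton_iff.1 (hP (smul_mem_pointwise_smul _ (MulAut.conj g) _ hQ))).symm⟩

/-- Camina's lemma. -/
theorem camina {s : ℕ} [hs : Fact s.Prime] (h : ∀ g : G, ¬ s ∣ orderOf g → ¬ s ∣ ix g) :
    (∀ P : Sylow s G, (P : Subgroup G).Normal) ∧ (∀ g, ¬ s ∣ orderOf g → g ∈ pPrimeCore s G) ∧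
      ∀ g y : G, ¬ s ∣ orderOf g → El s y → Commute g y := by
  have key := S4035.result (G := G) (p := s) fun x hx => by
    rw [FGS.ncard_carrier_mk]
    exact h x ((Nat.Prime.coprime_iff_not_dvd hs.out).1 hx.symm)
  refine ⟨fun P => (key P).1, fun g hg => ?_, fun g y hg hy => ?_⟩
  · obtain ⟨P⟩ : Nonempty (Sylow s G) := inferInstance
    obtain ⟨-, H, _, h1, -, h2⟩ := key P
    refine Grp.le_pPrimeCore ‹_› ((Nat.Prime.coprime_iff_not_dvd hs.out).2 h1).symm ?_
    have h3 : (P : Subgroup G).map (QuotientGroup.mk' H) = ⊤ := by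
      have := congrArg (Subgroup.map (QuotientGroup.mk' H)) h2
      rwa [Subgroup.map_sup, QuotientGroup.map_mk'_self, sup_bot_eq,
        map_top_of_surjective _ (QuotientGroup.mk'_surjective H)] at this
    have h4 := (El.of_mem (P.2.map (QuotientGroup.mk' H)) (h3.ge (mem_top (QuotientGroup.mk' H g)))).cop
      hs.out fun e => hg (e.trans (orderOf_map_dvd (QuotientGroup.mk' H) g))
    exact (QuotientGroup.eq_one_iff g).1 (orderOf_eq_one_iff.1 ((Nat.coprime_self _).1 h4))
  · obtain ⟨P, -, hP⟩ := FGS.exists_sylow_le_of_not_dvd_index (h g hg) IsPGroup.of_bot bot_le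
    obtain ⟨Q, hQ⟩ := FGS.exists_sylow_mem hy.pow
    have := Sylow.unique_of_normal P (key P).1
    exact (mem_centralizer_singleton_iff.1 (hP (Subsingleton.elim Q P ▸ hQ))).symm

theorem pow_of_primes {n p : ℕ} (hn : n ≠ 0) (h : ∀ r, r.Prime → r ∣ n → r = p) : ∃ k, n = p ^ k :=
  ⟨_, Nat.eq_prime_pow_of_unique_prime_dvd hn (h _)⟩

theorem solv_of_prime (h : (Nat.card G).Prime) : Group.IsSolvable G :=
  have := Fact.mk h
  have := isCyclic_of_prime_card (α := G) rfl
  Group.isSolvable_of_comm fun a b => (IsCyclic.isMulCommutative (α := G)).is_comm.comm a b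

theorem solv_of {s q : ℕ} (hq : q.Prime) (G : Type u) [Group G] [Finite G] :
    (∀ r, r.Prime → r ∣ Nat.card G → r = 2 ∨ r = s ∨ r = q) ∧ (∀ g : G, El q g → ¬ s ∣ ix g) →
      Group.IsSolvable G := by
  refine FGS.isSolvable_of_closed (P := fun G _ _ => (∀ r, r.Prime → r ∣ Nat.card G →
    r = 2 ∨ r = s ∨ r = q) ∧ (∀ g : G, El q g → ¬ s ∣ ix g)) ?_ ?_ ?_ G
  · exact fun G _ _ N _ h => ⟨fun r hr e => h.1 r hr (e.trans N.card_subgroup_dvd_card),
      fun g hg e => h.2 g (hg.imp fun _ e => (orderOf_coe g).trans e)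
        (e.trans (FGS.index_centralizer_normal_dvd N g))⟩
  · refine fun G _ _ N _ h => ⟨fun r hr e => h.1 r hr (e.trans (card_quotient_dvd_card N)),
      fun g hg e => ?_⟩
    obtain ⟨g, rfl, hg'⟩ := FGS.exists_lift_primePow _ (QuotientGroup.mk'_surjective N) hq g hg
    exact h.2 g hg' (e.trans (FGS.index_centralizer_map_dvd _ (QuotientGroup.mk'_surjective N) g))
  · intro G _ _ _ h
    have := Fact.mk hq
    by_cases hd : q ∣ Nat.card G
    · obtain ⟨z, hz, h1⟩ := exists_cen q hd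
      obtain ⟨k, hk⟩ := pow_of_primes (p := 2) (ix_ne z) fun r hr e => by
        rcases h.1 r hr (e.trans (index_dvd_card _)) with e' | rfl | rfl
        · exact e'
        · exact absurd e (h.2 z ⟨1, by rw [hz, pow_one]⟩)
        · exact absurd e h1
      exact solv_of_prime (S0143.result 2 k Nat.prime_two z
        (fun e => hq.one_lt.ne (by rw [← hz, e, orderOf_one])) hk)
    · refine S4068.isSolvable_of_primeFactors ((Finset.card_le_card (t := {2, s}) fun r hr => ?_).trans
        Finset.card_le_two)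
      obtain ⟨h1, h2, -⟩ := Nat.mem_primeFactors.1 hr
      rcases h.1 r h1 h2 with rfl | rfl | rfl
      · simp
      · simp
      · exact absurd h2 hd

/-- The hypotheses for a simple group. -/
structure SH (G : Type u) [Group G] : Prop where
  simple : IsSimpleGroup G
  ns : ¬ Group.IsSolvable G
  h2 : H2 G

namespace SH

variable (h : SH G)
include h

theorem nc : ¬ IsMulCommutative G := fun e =>
  h.ns (Group.isSolvable_of_comm fun a b => e.is_comm.comm a b)

theorem two {g : G} (g1 : g ≠ 1) : (ix g).primeFactors.card = 2 := by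
  have := h.simple
  refine le_antisymm (h.h2 g) (not_lt.1 fun c => h.ns (solv_of_prime ?_))
  by_cases e : ix g = 1
  · exact S0143.result 2 0 Nat.prime_two g g1 e
  · obtain ⟨p, hp, hd⟩ := Nat.exists_prime_and_dvd e
    obtain ⟨k, hk⟩ := pow_of_primes (p := p) (ix_ne g) fun r hr e =>
      Finset.card_le_one.1 (Nat.le_of_lt_succ c) r (by simp [*, ix_ne]) p (by simp [*, ix_ne])
    exact S0143.result p k hp g g1 hk

theorem same {a b : G} (b1 : b ≠ 1) (hab : centralizer {a} ≤ centralizer ({b} : Set G)) {r : ℕ}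
    (hr : r.Prime) (e : r ∣ ix a) : r ∣ ix b := by
  have := Finset.eq_of_subset_of_card_le (Nat.primeFactors_mono (index_dvd_of_le hab) (ix_ne a))
    ((h.h2 a).trans (h.two b1).ge)
  exact Nat.dvd_of_mem_primeFactors (this.ge (by simp [*, ix_ne]))

theorem mul {a b : G} (b1 : b ≠ 1) (c : Commute a b) (co : (orderOf a).Coprime (orderOf b)) {r : ℕ}
    (hr : r.Prime) (e : r ∣ ix (a * b)) : r ∣ ix b :=
  h.same b1 (by rw [FGS.centralizer_mul_of_coprime c co]; exact inf_le_right) hr e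

theorem cop {a b : G} (b1 : b ≠ 1) (c : Commute a b) (co : (orderOf a).Coprime (orderOf b)) {r : ℕ}
    (hr : r.Prime) (e : r ∣ ix a) : r ∣ ix b :=
  h.mul b1 c co hr (e.trans (index_dvd_of_le (by
    rw [FGS.centralizer_mul_of_coprime c co]; exact inf_le_left)))

/-- If an `s'`-element centralizes a Sylow `s`-subgroup, it has the same primes as all
`s`-elements. -/
theorem full {s : ℕ} [hs : Fact s.Prime] {x y : G} (x1 : x ≠ 1) (xs : ¬ s ∣ orderOf x)
    (hx : ¬ s ∣ ix x) (hy : El s y) {r : ℕ} (hr : r.Prime) (e : r ∣ ix y) : r ∣ ix x := by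
  obtain ⟨g, c⟩ := exists_conj_comm hx hy
  refine h.cop x1 c.symm (El.cop hs.out ?_ xs).symm hr (by rwa [ix, FGS.index_centralizer_conj])
  exact hy.imp fun k e => (MulAut.conj g).orderOf_eq y ▸ e

theorem full' {s : ℕ} [hs : Fact s.Prime] {x y : G} (xs : ¬ s ∣ orderOf x)
    (hx : ¬ s ∣ ix x) (hy : El s y) (y1 : y ≠ 1) {r : ℕ} (hr : r.Prime) (e : r ∣ ix x) :
    r ∣ ix y := by
  obtain ⟨g, c⟩ := exists_conj_comm hx hy
  have := h.cop (by simpa using y1) c (El.cop hs.out (hy.imp fun k e =>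
    (MulAut.conj g).orderOf_eq y ▸ e) xs) hr e
  rwa [ix, FGS.index_centralizer_conj] at this

/-- class sizes inside a centralizer -/
theorem loc {y : G} (y1 : y ≠ 1) {r : ℕ} (hr : r.Prime) (hy : ¬ r ∣ ix y)
    (g : centralizer ({y} : Set G)) (co : (orderOf g).Coprime (orderOf y)) : ¬ r ∣ ix g := fun e => by
  rw [← orderOf_coe] at co
  have c : Commute g.1 y := mem_centralizer_singleton_iff.1 g.2
  refine hy (h.mul y1 c co hr (e.trans ?_))
  rw [ix, ix, FGS.centralizer_singleton_subgroupOf, FGS.centralizer_mul_of_coprime c co,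
    ← inf_subgroupOf_right]
  exact relIndex_dvd_index_of_le inf_le_right

theorem cam {s : ℕ} [hs : Fact s.Prime] {y : G} (y1 : y ≠ 1) (ys : El s y) (hy : ¬ s ∣ ix y) :
    (∀ P : Sylow s (centralizer ({y} : Set G)), P.1.Normal) ∧
      (∀ g, ¬ s ∣ orderOf g → g ∈ pPrimeCore s (centralizer ({y} : Set G))) ∧
      ∀ g a : centralizer ({y} : Set G), ¬ s ∣ orderOf g → El s a → Commute g a :=
  camina fun g hg => h.loc y1 hs.out hy g (by
    simpa only [orderOf_coe] using ys.cop hs.out (g := g.1) (by rwa [orderOf_coe]))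

end SH

end Cfsg.Agent.Cs2
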